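import Mathlib

set_option autoImplicit false

open CategoryTheory CategoryTheory.Limits

namespace Groth.Agent.H4InjFun

universe w v u

open ZeroObject in
theorem exists_functorial_injective {A : Type u} [Category.{v} A] [Abelian A]
    [IsGrothendieckAbelian.{w} A] :
    ∃ (J : A ⥤ A) (j : 𝟭 _ ⟶ J), ∀ F : A, Injective (J.obj F) ∧ Mono (j.app F) := by
  let φ := MorphismProperty.functorialFactorizationData (MorphismProperty.monomorphisms A)
    (MorphismProperty.monomorphisms A).rlp
  let F₀ : A ⥤ Arrow A :=
    { obj := fun X => Arrow.mk (0 : X ⟶ (0 : A))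
      map := fun f => Arrow.homMk f (𝟙 _) (by simp) }
  refine ⟨F₀ ⋙ φ.Z, { app := fun X => φ.i.app (F₀.obj X),
                      naturality := fun X Y f => φ.i.naturality (F₀.map f) }, fun X => ⟨?_, ?_⟩⟩
  · have hp := φ.hp (F₀.obj X)
    rw [injective_iff_rlp_monomorphisms_zero]
    have e : φ.p.app (F₀.obj X) = 0 := (isZero_zero A).eq_of_tgt _ _
    rw [e] at hp
    exact hp
  · exact φ.hi (F₀.obj X)

end Groth.Agent.H4InjFun
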